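import Groth.Agent.EtGlueLib.FlatPair
import Groth.Agent.S7090

/-!
# Lifting extensions by torsion modules along a flat map which is an isomorphism modulo `I`
-/

set_option autoImplicit false
set_option linter.style.haveILetI false
set_option linter.unusedSectionVars false
set_option maxHeartbeats 1000000

universe u

open TensorProduct

noncomputable section

namespace Groth.Agent.ExtLift

variable {R : Type u} [CommRing R] (N : Type u) [AddCommGroup N] [Module R N]

abbrev pw (a : R) (k : ℕ) : Submonoid.powers a := ⟨a ^ k, k, rfl⟩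

abbrev Loc (a : R) : Type u := LocalizedModule (Submonoid.powers a) N

theorem mk_smul_cancel (a : R) (k : ℕ) (n : N) :
    a ^ k • LocalizedModule.mk n (pw a k) = LocalizedModule.mkLinearMap (Submonoid.powers a) N n := by
  rw [LocalizedModule.mkLinearMap_apply, LocalizedModule.smul'_mk, LocalizedModule.mk_eq]
  exact ⟨1, by simp [Submonoid.smul_def]⟩

theorem bijective_smul_left (a b : R) (m : ℕ) :
    Function.Bijective fun z : Loc N (a * b) => a ^ m • z := by
  have h := (Module.End.isUnit_iff _).1 (IsLocalizedModule.map_units (LocalizedModule.mkLinearMap (Submonoid.powers (a * b)) N)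
    (pw (a * b) m))
  refine ⟨fun z w hzw => h.1 ?_, fun z => ?_⟩
  · show (a * b) ^ m • z = (a * b) ^ m • w
    have e : ∀ y : Loc N (a * b), (a * b) ^ m • y = b ^ m • a ^ m • y := fun y => by
      rw [smul_smul]; congr 1; ring
    rw [e, e]
    exact congrArg (b ^ m • ·) hzw
  · obtain ⟨w, hw⟩ := h.2 z
    refine ⟨b ^ m • w, ?_⟩
    show a ^ m • b ^ m • w = z
    rw [smul_smul, ← mul_pow]
    exact hw

theorem isUnit_left (a b : R) (x : Submonoid.powers a) :
    IsUnit (algebraMap R (Module.End R (Loc N (a * b))) x) := by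
  obtain ⟨_, m, rfl⟩ := x
  exact (Module.End.isUnit_iff _).2 (bijective_smul_left N a b m)

theorem isUnit_right (a b : R) (x : Submonoid.powers b) :
    IsUnit (algebraMap R (Module.End R (Loc N (a * b))) x) := by
  obtain ⟨_, m, rfl⟩ := x
  rw [mul_comm a b]
  exact (Module.End.isUnit_iff _).2 (bijective_smul_left N b a m)

def resL (a b : R) : Loc N a →ₗ[R] Loc N (a * b) :=
  IsLocalizedModule.lift (Submonoid.powers a) (LocalizedModule.mkLinearMap (Submonoid.powers a) N)
    (LocalizedModule.mkLinearMap (Submonoid.powers (a * b)) N) (isUnit_left N a b)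

def resR (a b : R) : Loc N b →ₗ[R] Loc N (a * b) :=
  IsLocalizedModule.lift (Submonoid.powers b) (LocalizedModule.mkLinearMap (Submonoid.powers b) N)
    (LocalizedModule.mkLinearMap (Submonoid.powers (a * b)) N) (isUnit_right N a b)

theorem resL_num (a b : R) (n : N) :
    resL N a b (LocalizedModule.mkLinearMap (Submonoid.powers a) N n) =
      LocalizedModule.mkLinearMap (Submonoid.powers (a * b)) N n :=
  IsLocalizedModule.lift_apply _ _ _ _ n

theorem resR_num (a b : R) (n : N) :
    resR N a b (LocalizedModule.mkLinearMap (Submonoid.powers b) N n) =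
      LocalizedModule.mkLinearMap (Submonoid.powers (a * b)) N n :=
  IsLocalizedModule.lift_apply _ _ _ _ n

theorem resL_mk (a b : R) (k : ℕ) (n : N) :
    resL N a b (LocalizedModule.mk n (pw a k)) = LocalizedModule.mk (b ^ k • n) (pw (a * b) k) := by
  refine (bijective_smul_left N a b k).1 ?_
  show a ^ k • resL N a b _ = a ^ k • _
  rw [← map_smul, mk_smul_cancel, resL_num, LocalizedModule.smul'_mk, smul_smul, ← mul_pow, ← LocalizedModule.smul'_mk,
    mk_smul_cancel]

theorem resR_mk (a b : R) (k : ℕ) (n : N) :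
    resR N a b (LocalizedModule.mk n (pw b k)) = LocalizedModule.mk (a ^ k • n) (pw (a * b) k) := by
  have hinj : Function.Injective fun z : Loc N (a * b) => b ^ k • z := by
    have := bijective_smul_left N b a k
    rw [mul_comm b a] at this
    exact this.1
  refine hinj ?_
  show b ^ k • resR N a b _ = b ^ k • _
  rw [← map_smul, mk_smul_cancel, resR_num, LocalizedModule.smul'_mk, smul_smul, mul_comm (b ^ k), ← mul_pow,
    ← LocalizedModule.smul'_mk, mk_smul_cancel]

variable {t : ℕ} (f : Fin t → R)

abbrev A1 : Type u := ∀ i : Fin t, Loc N (f i)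

abbrev A2 : Type u := ∀ q : Fin t × Fin t, Loc N (f q.1 * f q.2)

def d0 : N →ₗ[R] A1 N f := LinearMap.pi fun i => LocalizedModule.mkLinearMap (Submonoid.powers (f i)) N

def d1 : A1 N f →ₗ[R] A2 N f :=
  LinearMap.pi fun q => (resL N (f q.1) (f q.2)).comp (LinearMap.proj q.1) - (resR N (f q.1) (f q.2)).comp (LinearMap.proj q.2)

theorem d1_d0 (n : N) : d1 N f (d0 N f n) = 0 := by
  funext q
  simp only [d1, LinearMap.pi_apply, LinearMap.sub_apply, LinearMap.comp_apply, LinearMap.proj_apply, d0, resL_num,
    resR_num, sub_self, Pi.zero_apply]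

/-- Cocycles modulo coboundaries are killed by powers of each `f i`. -/
theorem exists_pow_mem {x : A1 N f} (hx : d1 N f x = 0) (i : Fin t) :
    ∃ (a : ℕ) (n : N), f i ^ a • x = d0 N f n := by
  classical
  obtain ⟨⟨n₀, ⟨_, a₀, rfl⟩⟩, hn₀⟩ := IsLocalizedModule.surj (Submonoid.powers (f i))
    (LocalizedModule.mkLinearMap (Submonoid.powers (f i)) N) (x i)
  replace hn₀ : f i ^ a₀ • x i = LocalizedModule.mkLinearMap (Submonoid.powers (f i)) N n₀ := hn₀
  have h1 : ∀ j, ∃ e : ℕ, f i ^ e • (f i ^ a₀ • x j - LocalizedModule.mkLinearMap (Submonoid.powers (f j)) N n₀) = 0 := by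
    intro j
    obtain ⟨⟨m, ⟨_, b, rfl⟩⟩, hm⟩ := IsLocalizedModule.surj (Submonoid.powers (f j))
      (LocalizedModule.mkLinearMap (Submonoid.powers (f j)) N) (x j)
    replace hm : f j ^ b • x j = LocalizedModule.mkLinearMap (Submonoid.powers (f j)) N m := hm
    have hq : resL N (f i) (f j) (x i) = resR N (f i) (f j) (x j) := by
      have := congrFun hx (i, j)
      simp only [d1, LinearMap.pi_apply, LinearMap.sub_apply, LinearMap.comp_apply, LinearMap.proj_apply,
        Pi.zero_apply, sub_eq_zero] at this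
      exact this
    have h2 : LocalizedModule.mkLinearMap (Submonoid.powers (f i * f j)) N (f j ^ b • n₀) =
        LocalizedModule.mkLinearMap (Submonoid.powers (f i * f j)) N (f i ^ a₀ • m) := by
      rw [map_smul, map_smul, ← resL_num, ← hn₀, ← resR_num, ← hm, map_smul, map_smul, hq, smul_comm]
    rw [← sub_eq_zero, ← map_sub, EtGlueLib.mkLinearMap_eq_zero] at h2
    obtain ⟨e, he⟩ := h2
    refine ⟨e, ?_⟩
    have hinj := ((Module.End.isUnit_iff _).1 (IsLocalizedModule.map_units
      (LocalizedModule.mkLinearMap (Submonoid.powers (f j)) N) (pw (f j) (e + b)))).1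
    apply hinj
    show f j ^ (e + b) • (f i ^ e • (f i ^ a₀ • x j - _)) = f j ^ (e + b) • (0 : Loc N (f j))
    rw [smul_zero, smul_sub, smul_sub, pow_add, ← map_smul, ← map_smul]
    have h3 : (f j ^ e * f j ^ b) • f i ^ e • f i ^ a₀ • x j =
        LocalizedModule.mkLinearMap (Submonoid.powers (f j)) N ((f i * f j) ^ e • f i ^ a₀ • m) := by
      rw [map_smul, map_smul, ← hm]
      simp only [smul_smul]
      congr 1
      ring
    rw [h3, sub_eq_zero]
    rw [sub_eq_zero.1 (by rw [← smul_sub, ← neg_sub, smul_neg, he, neg_zero] :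
      (f i * f j) ^ e • f i ^ a₀ • m - (f i * f j) ^ e • f j ^ b • n₀ = 0)]
    congr 1
    simp only [smul_smul]
    congr 1
    ring
  choose e he using h1
  refine ⟨Finset.univ.sup e + a₀, f i ^ Finset.univ.sup e • n₀, funext fun j => ?_⟩
  rw [Pi.smul_apply, show d0 N f (f i ^ Finset.univ.sup e • n₀) j = f i ^ Finset.univ.sup e •
    LocalizedModule.mkLinearMap (Submonoid.powers (f j)) N n₀ by rw [map_smul]; rfl, pow_add, mul_smul, ← sub_eq_zero,
    ← smul_sub, ← Nat.sub_add_cancel (Finset.le_sup (f := e) (Finset.mem_univ j)), pow_add, mul_smul, he, smul_zero]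

variable {S : Type u} [CommRing S] [Algebra R S] [Module.Flat R S] {I : Ideal R}
  (hI : Ideal.span (Set.range f) = I)
  (hq : Function.Bijective
    (Ideal.quotientMap (Ideal.map (algebraMap R S) I) (algebraMap R S) Ideal.le_comap_map))

include hI hq in
theorem mk_bijective {M : Type u} [AddCommGroup M] [Module R M] (hM : ∀ (i) (m : M), ∃ n : ℕ, f i ^ n • m = 0) :
    Function.Bijective (TensorProduct.mk R S M 1) := by
  classical
  refine ⟨(injective_iff_map_eq_zero _).2 fun m hm => EtGlueLib.eq_zero_of_killed hq f hI (fun i => hM i m) hm, fun z => ?_⟩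
  induction z using TensorProduct.induction_on with
  | zero => exact ⟨0, map_zero _⟩
  | add x y hx hy =>
    obtain ⟨a, rfl⟩ := hx
    obtain ⟨b, rfl⟩ := hy
    exact ⟨a + b, map_add _ _ _⟩
  | tmul s m =>
    choose e he using fun i => hM i m
    have hm : m ∈ EtGlueLib.killedBy f (Finset.univ.sup e) M := (EtGlueLib.mem_killedBy f).2 fun i => by
      rw [← Nat.sub_add_cancel (Finset.le_sup (f := e) (Finset.mem_univ i)), pow_add, mul_smul, he, smul_zero]
    obtain ⟨k, hk⟩ := EtGlueLib.killed_killedBy f hI (Finset.univ.sup e) M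
    obtain ⟨y, hy⟩ := EtGlueLib.surjective_of_killed hq k _ hk (s ⊗ₜ[R] ⟨m, hm⟩)
    exact ⟨y, by simpa using congrArg ((EtGlueLib.killedBy f (Finset.univ.sup e) M).subtype.lTensor S) hy⟩

include hI hq in
/-- Cocycles over `S` come from cocycles over `R` up to coboundaries. -/
theorem exists_cocycle (s : S ⊗[R] A1 N f) (hs : (d1 N f).lTensor S s = 0) :
    ∃ (x : A1 N f) (z : S ⊗[R] N), d1 N f x = 0 ∧ s - (1 : S) ⊗ₜ[R] x = (d0 N f).lTensor S z := by
  classical
  let d0' : N →ₗ[R] LinearMap.ker (d1 N f) := (d0 N f).codRestrict _ fun n => LinearMap.mem_ker.2 (d1_d0 N f n)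
  let π := (LinearMap.range d0').mkQ
  obtain ⟨s', rfl⟩ := (Module.Flat.lTensor_exact S (LinearMap.exact_subtype_ker_map (d1 N f)) s).1 hs
  have htor : ∀ (i) (h : LinearMap.ker (d1 N f) ⧸ LinearMap.range d0'), ∃ n : ℕ, f i ^ n • h = 0 := by
    intro i h
    obtain ⟨x, rfl⟩ := Submodule.Quotient.mk_surjective _ h
    obtain ⟨a, n, hn⟩ := exists_pow_mem N f (LinearMap.mem_ker.1 x.2) i
    exact ⟨a, (Submodule.Quotient.mk_eq_zero _).2 ⟨n, Subtype.ext hn.symm⟩⟩
  obtain ⟨h₀, hh₀⟩ := (mk_bijective f hI hq htor).2 (π.lTensor S s')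
  obtain ⟨x, rfl⟩ := Submodule.Quotient.mk_surjective _ h₀
  have h0 : π.lTensor S (s' - (1 : S) ⊗ₜ[R] x) = 0 := by
    rw [map_sub, LinearMap.lTensor_tmul, sub_eq_zero]
    exact hh₀.symm
  obtain ⟨z, hz⟩ := (lTensor_exact S (LinearMap.exact_map_mkQ_range d0') (Submodule.mkQ_surjective _) _).1 h0
  refine ⟨x, z, LinearMap.mem_ker.1 x.2, ?_⟩
  have := congrArg ((LinearMap.ker (d1 N f)).subtype.lTensor S) hz
  rw [map_sub, LinearMap.lTensor_tmul, ← LinearMap.comp_apply, ← LinearMap.lTensor_comp] at this
  exact this.symm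

variable {N}

include hI hq in
theorem exists_extension {M : Type u} [AddCommGroup M] [Module R M] (hM : ∀ (i) (m : M), ∃ n : ℕ, f i ^ n • m = 0)
    {E' : Type u} [AddCommGroup E'] [Module R E'] (i' : S ⊗[R] N →ₗ[R] E') (p' : E' →ₗ[R] S ⊗[R] M)
    (hi' : Function.Injective i') (hp' : Function.Surjective p') (hex' : LinearMap.range i' = LinearMap.ker p') :
    ∃ (E : Type u) (_ : AddCommGroup E) (_ : Module R E) (i : N →ₗ[R] E) (p : E →ₗ[R] M) (g : E →ₗ[R] E'),
      Function.Injective i ∧ Function.Surjective p ∧ LinearMap.range i = LinearMap.ker p ∧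
      (∀ n : N, g (i n) = i' ((1 : S) ⊗ₜ[R] n)) ∧ (∀ e : E, p' (g e) = (1 : S) ⊗ₜ[R] p e) := by
  classical
  let g0 : N →ₗ[R] E' := i'.comp (TensorProduct.mk R S N 1)
  let D : E' →ₗ[R] ∀ i, Loc E' (f i) := LinearMap.pi fun i => LocalizedModule.mkLinearMap (Submonoid.powers (f i)) E'
  haveI hloc : ∀ i, IsLocalizedModule (Submonoid.powers (f i))
      ((LocalizedModule.mkLinearMap (Submonoid.powers (f i)) N).lTensor S) := fun i => by
    have e : (LocalizedModule.mkLinearMap (Submonoid.powers (f i)) N).lTensor S =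
        (TensorProduct.comm R (Loc N (f i)) S).toLinearMap ∘ₗ
          (AlgebraTensorModule.rTensor R S (LocalizedModule.mkLinearMap (Submonoid.powers (f i)) N)) ∘ₗ
            (TensorProduct.comm R S N).toLinearMap := TensorProduct.ext' fun a b => rfl
    rw [e]
    haveI := IsLocalizedModule.of_linearEquiv_right (Submonoid.powers (f i))
      (AlgebraTensorModule.rTensor R S (LocalizedModule.mkLinearMap (Submonoid.powers (f i)) N)) (TensorProduct.comm R S N)
    exact IsLocalizedModule.of_linearEquiv (Submonoid.powers (f i)) _ (TensorProduct.comm R (Loc N (f i)) S)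
  let Θ : ∀ i, S ⊗[R] A1 N f →ₗ[R] Loc E' (f i) := fun i =>
    (IsLocalizedModule.map (Submonoid.powers (f i)) (LocalizedModule.mkLinearMap (Submonoid.powers (f i)) (S ⊗[R] N))
      (LocalizedModule.mkLinearMap (Submonoid.powers (f i)) E') i').comp
    (((IsLocalizedModule.iso (Submonoid.powers (f i))
      ((LocalizedModule.mkLinearMap (Submonoid.powers (f i)) N).lTensor S)).symm.toLinearMap).comp
      ((LinearMap.proj i : A1 N f →ₗ[R] Loc N (f i)).lTensor S))
  have hΘ : ∀ i (z : S ⊗[R] N), Θ i ((d0 N f).lTensor S z) = LocalizedModule.mkLinearMap (Submonoid.powers (f i)) E' (i' z) := by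
    intro i z
    simp only [Θ, LinearMap.comp_apply, LinearEquiv.coe_coe]
    rw [← LinearMap.comp_apply (LinearMap.lTensor S (LinearMap.proj i)) , ← LinearMap.lTensor_comp,
      show (LinearMap.proj i).comp (d0 N f) = LocalizedModule.mkLinearMap (Submonoid.powers (f i)) N from rfl,
      IsLocalizedModule.iso_symm_apply' (a := z) (b := 1) (eq1 := one_smul _ _)]
    exact IsLocalizedModule.map_apply _ _ _ _ z
  let J : A1 N f →ₗ[R] ∀ i, Loc E' (f i) := LinearMap.pi fun i => (Θ i).comp (TensorProduct.mk R S _ 1)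
  let E : Submodule R (E' × A1 N f) :=
    LinearMap.ker ((d1 N f).comp (LinearMap.snd R E' (A1 N f))) ⊓
      LinearMap.ker (D.comp (LinearMap.fst R E' (A1 N f)) - J.comp (LinearMap.snd R E' (A1 N f)))
  have hmem : ∀ e' x, (e', x) ∈ E ↔ d1 N f x = 0 ∧ D e' = J x := fun e' x => by
    simp [E, sub_eq_zero]
  let i : N →ₗ[R] E := (LinearMap.prod g0 (d0 N f)).codRestrict E fun n => (hmem _ _).2 ⟨d1_d0 N f n, funext fun j => by
    show LocalizedModule.mkLinearMap (Submonoid.powers (f j)) E' (g0 n) = Θ j ((1 : S) ⊗ₜ[R] d0 N f n)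
    rw [← LinearMap.lTensor_tmul, hΘ]
    rfl⟩
  let eM := LinearEquiv.ofBijective (TensorProduct.mk R S M 1) (mk_bijective f hI hq hM)
  let g : E →ₗ[R] E' := (LinearMap.fst R E' (A1 N f)).comp E.subtype
  let p : E →ₗ[R] M := eM.symm.toLinearMap.comp (p'.comp g)
  have hpp : ∀ e : E, p' (g e) = (1 : S) ⊗ₜ[R] p e := fun e => (eM.apply_symm_apply (p' (g e))).symm
  refine ⟨E, inferInstance, inferInstance, i, p, g, ?_, ?_, ?_, fun n => rfl, hpp⟩
  · refine (injective_iff_map_eq_zero i).2 fun n hn => ?_
    have h1 := congrArg (fun e : E => e.1.1) hn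
    have h2 := congrArg (fun e : E => e.1.2) hn
    exact (Groth.Agent.S7090.result f I hI hq N).1 n (hi' (h1.trans (map_zero i').symm)) fun j => congrFun h2 j
  · intro m
    obtain ⟨e', he'⟩ := hp' ((1 : S) ⊗ₜ[R] m)
    choose k hk using fun j => hM j m
    let K := Finset.univ.sup k
    have hz : ∀ j, ∃ z, i' z = f j ^ K • e' := fun j => by
      have : f j ^ K • e' ∈ LinearMap.ker p' := by
        rw [LinearMap.mem_ker, map_smul, he', ← TensorProduct.tmul_smul,
          show K = Finset.univ.sup k from rfl, ← Nat.sub_add_cancel (Finset.le_sup (f := k) (Finset.mem_univ j)), pow_add, mul_smul, hk, smul_zero, tmul_zero]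
      rw [← hex'] at this
      exact this
    choose z hz using hz
    let φ : ∀ j : Fin t, N →ₗ[R] A1 N f := fun j => (LinearMap.single R _ j).comp
      ((LocalizedModule.divBy (pw (f j) K)).comp (LocalizedModule.mkLinearMap (Submonoid.powers (f j)) N))
    have hφ : ∀ j n, φ j n = Pi.single (M := fun i => Loc N (f i)) j (LocalizedModule.mk n (pw (f j) K)) := fun j n => by
      show Pi.single (M := fun i => Loc N (f i)) j (LocalizedModule.mk n (1 * pw (f j) K)) = _
      rw [one_mul]
    let s : S ⊗[R] A1 N f := ∑ j, (φ j).lTensor S (z j)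
    have hs : (d1 N f).lTensor S s = 0 := by
      refine (TensorProduct.piRight R R S _).injective (funext fun q => ?_)
      rw [map_zero, Pi.zero_apply]
      have hcomp : ∀ w : S ⊗[R] A2 N f, TensorProduct.piRight R R S _ w q = (LinearMap.proj q : A2 N f →ₗ[R] _).lTensor S w := by
        intro w
        induction w using TensorProduct.induction_on with
        | zero => simp
        | tmul a b => simp
        | add a b ha hb => simp only [map_add, Pi.add_apply, ha, hb]
      rw [hcomp, ← LinearMap.comp_apply, ← LinearMap.lTensor_comp]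
      let lam : N →ₗ[R] Loc N (f q.1 * f q.2) := (LocalizedModule.divBy (pw (f q.1 * f q.2) K)).comp
        (LocalizedModule.mkLinearMap (Submonoid.powers (f q.1 * f q.2)) N)
      have hlam : ∀ n, lam n = LocalizedModule.mk n (pw (f q.1 * f q.2) K) := fun n => by
        show LocalizedModule.mk n (1 * pw (f q.1 * f q.2) K) = _
        rw [one_mul]
      have key : ∀ l, ((LinearMap.proj q).comp (d1 N f)).comp (φ l) =
          (if l = q.1 then lam.comp (f q.2 ^ K • LinearMap.id) else 0) -
            (if l = q.2 then lam.comp (f q.1 ^ K • LinearMap.id) else 0) := by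
        intro l
        refine LinearMap.ext fun n => ?_
        simp only [d1, LinearMap.comp_apply, LinearMap.proj_apply, LinearMap.pi_apply, LinearMap.sub_apply, hφ]
        congr 1
        · by_cases h : l = q.1
          · subst h
            rw [Pi.single_eq_same, if_pos rfl, resL_mk]
            simp [hlam]
          · rw [Pi.single_eq_of_ne (Ne.symm h), if_neg h, map_zero, LinearMap.zero_apply]
        · by_cases h : l = q.2
          · subst h
            rw [Pi.single_eq_same, if_pos rfl, resR_mk]
            simp [hlam]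
          · rw [Pi.single_eq_of_ne (Ne.symm h), if_neg h, map_zero, LinearMap.zero_apply]
      have hzero : f q.2 ^ K • z q.1 - f q.1 ^ K • z q.2 = 0 := hi' (by
        rw [map_sub, map_smul, map_smul, hz, hz, smul_comm, sub_self, map_zero])
      have hsm : ∀ (c : R) (w : S ⊗[R] N), (lam.comp (c • LinearMap.id)).lTensor S w = lam.lTensor S (c • w) := by
        intro c w
        rw [LinearMap.comp_smul, LinearMap.lTensor_smul, LinearMap.smul_apply, map_smul]
        rfl
      simp only [s, map_sum, ← LinearMap.comp_apply (((LinearMap.proj q).comp (d1 N f)).lTensor S),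
        ← LinearMap.lTensor_comp, key, LinearMap.lTensor_sub, LinearMap.sub_apply, Finset.sum_sub_distrib]
      simp [apply_ite (LinearMap.lTensor S), ite_apply, hsm]
      rw [Finset.sum_eq_single q.1 (fun l _ hl => by rw [if_neg hl]; rfl) (fun h => absurd (Finset.mem_univ _) h),
        Finset.sum_eq_single q.2 (fun l _ hl => by rw [if_neg hl]; rfl) (fun h => absurd (Finset.mem_univ _) h),
        if_pos rfl, if_pos rfl, hsm, hsm, ← map_sub, hzero, map_zero]
    obtain ⟨x, w, hx, hxw⟩ := exists_cocycle N f hI hq s hs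
    have hΘs : ∀ j, Θ j s = LocalizedModule.mkLinearMap (Submonoid.powers (f j)) E' e' := by
      intro j
      have hinj := ((Module.End.isUnit_iff _).1 (IsLocalizedModule.map_units
        (LocalizedModule.mkLinearMap (Submonoid.powers (f j)) E') (pw (f j) K))).1
      apply hinj
      show f j ^ K • Θ j s = f j ^ K • LocalizedModule.mkLinearMap (Submonoid.powers (f j)) E' e'
      rw [← map_smul, ← map_smul (LocalizedModule.mkLinearMap (Submonoid.powers (f j)) E'), ← hz, ← hΘ]
      simp only [Θ, LinearMap.comp_apply, LinearEquiv.coe_coe]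
      congr 2
      rw [map_smul, ← LinearMap.comp_apply (LinearMap.lTensor S (LinearMap.proj j)), ← LinearMap.lTensor_comp]
      simp only [s, map_sum, ← LinearMap.comp_apply (LinearMap.lTensor S (LinearMap.proj j)), ← LinearMap.lTensor_comp]
      rw [Finset.sum_eq_single j (fun l _ hl => by
          rw [show (LinearMap.proj j).comp (φ l) = 0 from LinearMap.ext fun n => by simp [hφ, Pi.single_eq_of_ne (Ne.symm hl)],
            LinearMap.lTensor_zero, LinearMap.zero_apply]) (fun h => absurd (Finset.mem_univ j) h),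
        ← LinearMap.smul_apply, ← LinearMap.lTensor_smul]
      congr 2
      refine LinearMap.ext fun n => ?_
      simp only [LinearMap.smul_apply, LinearMap.comp_apply, LinearMap.proj_apply, hφ, Pi.single_eq_same]
      exact mk_smul_cancel N (f j) K n
    refine ⟨⟨(e' - i' w, x), (hmem _ _).2 ⟨hx, funext fun j => ?_⟩⟩, ?_⟩
    · show LocalizedModule.mkLinearMap (Submonoid.powers (f j)) E' (e' - i' w) = Θ j ((1 : S) ⊗ₜ[R] x)
      rw [map_sub, ← hΘs, ← hΘ, ← map_sub, ← hxw, sub_sub_cancel]
    · show eM.symm (p' (e' - i' w)) = m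
      rw [map_sub, show p' (i' w) = 0 from LinearMap.mem_ker.1 (hex'.le ⟨w, rfl⟩), sub_zero, he']
      exact eM.symm_apply_apply m
  · ext e
    constructor
    · rintro ⟨n, rfl⟩
      show eM.symm (p' (i' ((1 : S) ⊗ₜ[R] n))) = 0
      rw [show p' (i' ((1 : S) ⊗ₜ[R] n)) = 0 from LinearMap.mem_ker.1 (hex'.le ⟨_, rfl⟩), map_zero]
    · intro he
      have hg : p' (g e) = 0 := by rw [hpp, LinearMap.mem_ker.1 he, tmul_zero]
      obtain ⟨z, hz⟩ : g e ∈ LinearMap.range i' := by rw [hex']; exact hg
      obtain ⟨⟨e', x⟩, hex⟩ := e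
      obtain ⟨hx, hD⟩ := (hmem _ _).1 hex
      replace hz : i' z = e' := hz
      choose nn hnn using fun j => IsLocalizedModule.surj (Submonoid.powers (f j))
        (LocalizedModule.mkLinearMap (Submonoid.powers (f j)) N) (x j)
      choose a ha using fun j => (nn j).2.2
      let A := Finset.univ.sup a
      let m : Fin t → N := fun j => f j ^ (A - a j) • (nn j).1
      have hm : ∀ j, x j = LocalizedModule.mk (m j) (pw (f j) A) := by
        intro j
        have hinj := ((Module.End.isUnit_iff _).1 (IsLocalizedModule.map_units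
          (LocalizedModule.mkLinearMap (Submonoid.powers (f j)) N) (pw (f j) A))).1
        apply hinj
        show f j ^ A • x j = f j ^ A • LocalizedModule.mk (m j) (pw (f j) A)
        obtain ⟨c, hc⟩ : ∃ c, A = c + a j :=
          ⟨A - a j, (Nat.sub_add_cancel (Finset.le_sup (f := a) (Finset.mem_univ j))).symm⟩
        rw [mk_smul_cancel, show m j = f j ^ (A - a j) • (nn j).1 from rfl, map_smul, ← hnn j, hc, Nat.add_sub_cancel,
          pow_add, mul_smul, Submonoid.smul_def, ← ha j]
      have c1 : ∀ j, EtGlue.locOfTensor R S (f j) N z =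
          EtGlue.tensorOfLoc R S (f j) N (LocalizedModule.mk (m j) ⟨f j ^ A, Submonoid.pow_mem _ (Submonoid.mem_powers (f j)) A⟩) := by
        intro j
        have hinj : Function.Injective (IsLocalizedModule.map (Submonoid.powers (f j))
            (LocalizedModule.mkLinearMap (Submonoid.powers (f j)) (S ⊗[R] N))
            (LocalizedModule.mkLinearMap (Submonoid.powers (f j)) E') i') :=
          IsLocalizedModule.map_injective _ _ _ _ hi'
        have h := congrFun hD j
        rw [show D e' j = LocalizedModule.mkLinearMap (Submonoid.powers (f j)) E' e' from rfl, ← hz,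
          ← IsLocalizedModule.map_apply (Submonoid.powers (f j)) (LocalizedModule.mkLinearMap (Submonoid.powers (f j)) (S ⊗[R] N))
            (LocalizedModule.mkLinearMap (Submonoid.powers (f j)) E') i' z] at h
        have h' := hinj h
        show LocalizedModule.mkLinearMap (Submonoid.powers (f j)) (S ⊗[R] N) z = _
        rw [h', ← hm]
        simp only [LinearMap.comp_apply, LinearEquiv.coe_coe, TensorProduct.mk_apply, LinearMap.lTensor_tmul, LinearMap.proj_apply]
        refine LinearMap.congr_fun (IsLocalizedModule.ext (Submonoid.powers (f j))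
          (LocalizedModule.mkLinearMap (Submonoid.powers (f j)) N)
          (fun r => IsLocalizedModule.map_units (LocalizedModule.mkLinearMap (Submonoid.powers (f j)) (S ⊗[R] N)) r)
          (j := ((IsLocalizedModule.iso (Submonoid.powers (f j))
            ((LocalizedModule.mkLinearMap (Submonoid.powers (f j)) N).lTensor S)).symm.toLinearMap).comp
              (TensorProduct.mk R S _ 1)) (k := EtGlue.tensorOfLoc R S (f j) N) (LinearMap.ext fun n => ?_)) (x j)
        simp only [LinearMap.comp_apply, LinearEquiv.coe_coe, TensorProduct.mk_apply, EtGlueLib.tensorOfLoc_mk]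
        rw [← LinearMap.lTensor_tmul, IsLocalizedModule.iso_symm_apply' (a := (1 : S) ⊗ₜ[R] n) (b := 1) (eq1 := one_smul _ _)]
        rfl
      have c2 : ∀ j l, ∃ e : ℕ, (f j * f l) ^ e • (f l ^ A • m j - f j ^ A • m l) = 0 := by
        intro j l
        have h := congrFun hx (j, l)
        simp only [d1, LinearMap.pi_apply, LinearMap.sub_apply, LinearMap.comp_apply, LinearMap.proj_apply, hm,
          resL_mk, resR_mk, Pi.zero_apply, sub_eq_zero] at h
        have h2 := congrArg (fun y => (f j * f l) ^ A • y) h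
        simp only [mk_smul_cancel] at h2
        exact EtGlueLib.mkLinearMap_eq_zero.1 (by rw [map_sub, h2, sub_self])
      obtain ⟨μ, hμ1, hμ2⟩ := (Groth.Agent.S7090.result f I hI hq N).2 z A m c1 c2
      refine ⟨μ, Subtype.ext (Prod.ext ?_ (funext fun j => ?_))⟩
      · show i' ((1 : S) ⊗ₜ[R] μ) = e'
        rw [hμ1, hz]
      · show LocalizedModule.mkLinearMap (Submonoid.powers (f j)) N μ = x j
        rw [hμ2, hm]

end Groth.Agent.ExtLift
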